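import Cfsg.Agent.Lib.M22Sub.Big

/-!
No subgroup of order 7920: the counting part.
-/

set_option autoImplicit false

namespace Cfsg.Agent.Lib.M22Sub

open Cfsg Finset
open scoped Pointwise
open Cfsg.Agent.Lib.Golay

variable {H : Subgroup (Equiv.Perm GolayPt)} {p q a b : GolayPt}

open Classical in
noncomputable def Nf (H : Subgroup (Equiv.Perm GolayPt)) (a b x : GolayPt) : Finset GolayPt :=
  Finset.univ.filter (fun y => ∃ g ∈ H, g a = x ∧ g b = y)

theorem mem_Nf {x y : GolayPt} : y ∈ Nf H a b x ↔ ∃ g ∈ H, g a = x ∧ g b = y := by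
  classical
  unfold Nf
  rw [Finset.mem_filter]
  simp

theorem Nf_smul {x y : GolayPt} {k : Equiv.Perm GolayPt} (hk : k ∈ H) : k y ∈ Nf H a b (k x) ↔ y ∈ Nf H a b x := by
  rw [mem_Nf, mem_Nf]
  constructor
  · rintro ⟨g, hg, h1, h2⟩
    refine ⟨k⁻¹ * g, H.mul_mem (H.inv_mem hk) hg, ?_, ?_⟩
    · rw [Equiv.Perm.mul_apply, h1]; simp
    · rw [Equiv.Perm.mul_apply, h2]; simp
  · rintro ⟨g, hg, h1, h2⟩
    exact ⟨k * g, H.mul_mem hk hg, by rw [Equiv.Perm.mul_apply, h1], by rw [Equiv.Perm.mul_apply, h2]⟩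

theorem Nf_eq_smul {x : GolayPt} {k : Equiv.Perm GolayPt} (hk : k ∈ H) : Nf H a b (k x) = k • Nf H a b x := by
  ext y
  obtain ⟨y, rfl⟩ := k.surjective y
  rw [smul_mem_smul_iff', Nf_smul hk]

theorem Nf_a : Nf H a b a = orbF (H ⊓ MulAction.stabilizer (Equiv.Perm GolayPt) a) b := by
  ext y
  rw [mem_Nf, mem_orbF]
  constructor
  · rintro ⟨g, hg, h1, h2⟩; exact ⟨g, ⟨hg, h1⟩, h2⟩
  · rintro ⟨g, ⟨hg, h1⟩, h2⟩; exact ⟨g, hg, h1, h2⟩

/-- common in-neighbours -/
noncomputable def Cn (H : Subgroup (Equiv.Perm GolayPt)) (p q a b x y : GolayPt) : ℕ :=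
  ((Om p q).filter (fun z => x ∈ Nf H a b z ∧ y ∈ Nf H a b z)).card

theorem Om_smul (h : Two H p q) {k : Equiv.Perm GolayPt} (hk : k ∈ H) : k • Om p q = Om p q := by
  apply Finset.eq_of_subset_of_card_le
  · intro x hx
    obtain ⟨y, hy, rfl⟩ := Finset.mem_smul_finset.1 hx
    exact Om_inv h hk hy
  · rw [Finset.card_smul_finset]

theorem Cn_smul (h : Two H p q) {k : Equiv.Perm GolayPt} (hk : k ∈ H) (x y : GolayPt) :
    Cn H p q a b (k x) (k y) = Cn H p q a b x y := by
  unfold Cn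
  have : (Om p q).filter (fun z => k x ∈ Nf H a b z ∧ k y ∈ Nf H a b z) =
      k • (Om p q).filter (fun z => x ∈ Nf H a b z ∧ y ∈ Nf H a b z) := by
    ext z
    obtain ⟨z, rfl⟩ := k.surjective z
    rw [smul_mem_smul_iff', mem_filter, mem_filter, Nf_smul hk, Nf_smul hk]
    have h1 : k z ∈ Om p q ↔ z ∈ Om p q := by
      conv_lhs => rw [← Om_smul h hk]
      exact smul_mem_smul_iff' _ _ _
    rw [h1]
  rw [this, Finset.card_smul_finset]

theorem Cn_comm (x y : GolayPt) : Cn H p q a b x y = Cn H p q a b y x := by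
  unfold Cn
  congr 1
  ext z
  rw [mem_filter, mem_filter]; tauto

variable (hC : Cfg H p q a b)

include hC

theorem Nf_card {x : GolayPt} (hx : x ∈ Om p q) : (Nf H a b x).card = 6 := by
  obtain ⟨g, hg, rfl⟩ := hC.tr x hx
  rw [Nf_eq_smul hg, Finset.card_smul_finset, Nf_a, hC.six]

theorem Nf_sub {x : GolayPt} (hx : x ∈ Om p q) : Nf H a b x ⊆ (Om p q).erase x := by
  intro y hy
  obtain ⟨g, hg, h1, h2⟩ := mem_Nf.1 hy
  rw [mem_erase, ← h1, ← h2]
  exact ⟨fun e => hC.hab (g.injective e).symm, Om_inv hC.two hg hC.hb⟩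

theorem in_card {x : GolayPt} (hx : x ∈ Om p q) : ((Om p q).filter (fun z => x ∈ Nf H a b z)).card = 6 := by
  have hconst : ∀ x ∈ Om p q, ((Om p q).filter (fun z => x ∈ Nf H a b z)).card =
      ((Om p q).filter (fun z => a ∈ Nf H a b z)).card := by
    intro x hx
    obtain ⟨g, hg, rfl⟩ := hC.tr x hx
    have : (Om p q).filter (fun z => g a ∈ Nf H a b z) = g • (Om p q).filter (fun z => a ∈ Nf H a b z) := by
      ext z
      obtain ⟨z, rfl⟩ := g.surjective z
      rw [smul_mem_smul_iff', mem_filter, mem_filter, Nf_smul hg]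
      have h1 : g z ∈ Om p q ↔ z ∈ Om p q := by
        conv_lhs => rw [← Om_smul hC.two hg]
        exact smul_mem_smul_iff' _ _ _
      rw [h1]
    rw [this, Finset.card_smul_finset]
  have h1 : ∑ x ∈ Om p q, ((Om p q).filter (fun z => x ∈ Nf H a b z)).card = ∑ z ∈ Om p q, (Nf H a b z).card := by
    refine (Finset.sum_card_bipartiteAbove_eq_sum_card_bipartiteBelow (s := Om p q) (t := Om p q) (fun x z => x ∈ Nf H a b z)).trans ?_
    apply Finset.sum_congr rfl
    intro z hz
    congr 1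
    unfold Finset.bipartiteBelow
    ext y
    rw [mem_filter]
    constructor
    · exact fun h => h.2
    · intro h; exact ⟨mem_of_mem_erase (Nf_sub hC hz h), h⟩
  rw [Finset.sum_congr rfl hconst, Finset.sum_congr rfl (fun z hz => Nf_card hC hz), Finset.sum_const, Finset.sum_const,
    card_Om hC.two.ne] at h1
  rw [hconst x hx]
  simp only [smul_eq_mul] at h1
  omega

/-- counting common in-neighbours along a set -/
theorem sum_Cn {x : GolayPt} (X : Finset GolayPt) :
    ∑ y ∈ X, Cn H p q a b x y = ∑ z ∈ (Om p q).filter (fun z => x ∈ Nf H a b z), (X ∩ Nf H a b z).card := by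
  unfold Cn
  have h := Finset.sum_card_bipartiteAbove_eq_sum_card_bipartiteBelow (s := X)
    (t := (Om p q).filter (fun z => x ∈ Nf H a b z)) (fun y z => y ∈ Nf H a b z)
  have e1 : ∀ y ∈ X, ((Om p q).filter (fun z => x ∈ Nf H a b z ∧ y ∈ Nf H a b z)).card =
      (Finset.bipartiteAbove (fun y z => y ∈ Nf H a b z) ((Om p q).filter (fun z => x ∈ Nf H a b z)) y).card := by
    intro y _
    unfold Finset.bipartiteAbove
    rw [Finset.filter_filter]
  rw [Finset.sum_congr rfl e1, h]
  rfl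

/-- the two values -/
theorem Cn_vals : ∃ l m : ℕ, (∀ x ∈ Om p q, ∀ y ∈ Om p q, x ≠ y → (y ∈ Nf H a b x → Cn H p q a b x y = l) ∧
    (y ∉ Nf H a b x → Cn H p q a b x y = m)) ∧ 6 * l + 15 * m = 30 := by
  obtain ⟨m0, hm0, hm1, hm2⟩ : ∃ m0 ∈ Om p q, m0 ≠ a ∧ m0 ∉ Nf H a b a := by
    have h1 : (insert a (Nf H a b a)).card < (Om p q).card := by
      have := Finset.card_insert_le a (Nf H a b a)
      rw [Nf_card hC hC.ha] at this
      rw [card_Om hC.two.ne]; omega
    obtain ⟨m0, h2, h3⟩ := Finset.exists_mem_notMem_of_card_lt_card h1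
    rw [mem_insert, not_or] at h3
    exact ⟨m0, h2, h3.1, h3.2⟩
  have hA : ∀ y ∈ Om p q, a ≠ y → (y ∈ Nf H a b a → Cn H p q a b a y = Cn H p q a b a b) ∧
      (y ∉ Nf H a b a → Cn H p q a b a y = Cn H p q a b a m0) := by
    intro y hy hay
    constructor
    · intro h1
      obtain ⟨g, hg, h2, h3⟩ := mem_Nf.1 h1
      have := Cn_smul (a := a) (b := b) hC.two hg a b
      rw [h2, h3] at this
      exact this
    · intro h1
      rw [Nf_a] at h1 hm2
      obtain ⟨g, hg, h2, h3⟩ := hC.fif m0 hm0 hm1 hm2 y hy (Ne.symm hay) h1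
      have := Cn_smul (a := a) (b := b) hC.two hg a m0
      rw [h2, h3] at this
      exact this
  refine ⟨Cn H p q a b a b, Cn H p q a b a m0, ?_, ?_⟩
  · intro x hx y hy hxy
    obtain ⟨g, hg, rfl⟩ := hC.tr x hx
    obtain ⟨y, rfl⟩ := g.surjective y
    have hy' : y ∈ Om p q := by
      rw [← Om_smul hC.two hg, smul_mem_smul_iff'] at hy; exact hy
    rw [Cn_smul hC.two hg, Nf_smul hg]
    exact hA y hy' (fun e => hxy (by rw [e]))
  · have h1 := sum_Cn hC (x := a) ((Om p q).erase a)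
    have h2 : ∑ z ∈ (Om p q).filter (fun z => a ∈ Nf H a b z), ((Om p q).erase a ∩ Nf H a b z).card = 30 := by
      rw [Finset.sum_congr rfl (fun z hz => ?_) (g := fun _ => 5)]
      · rw [Finset.sum_const, in_card hC hC.ha]; rfl
      · rw [mem_filter] at hz
        have e : (Om p q).erase a ∩ Nf H a b z = (Nf H a b z).erase a := by
          ext y
          rw [mem_inter, mem_erase, mem_erase]
          constructor
          · rintro ⟨⟨h3, _⟩, h4⟩; exact ⟨h3, h4⟩
          · rintro ⟨h3, h4⟩; exact ⟨⟨h3, mem_of_mem_erase (Nf_sub hC hz.1 h4)⟩, h4⟩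
        rw [e, Finset.card_erase_of_mem hz.2, Nf_card hC hz.1]
    have h3 : (Om p q).erase a = Nf H a b a ∪ ((Om p q).erase a \ Nf H a b a) :=
      (Finset.union_sdiff_of_subset (Nf_sub hC hC.ha)).symm
    rw [h2, h3, Finset.sum_union Finset.disjoint_sdiff] at h1
    rw [Finset.sum_congr rfl (fun y hy => (hA y (mem_of_mem_erase (Nf_sub hC hC.ha hy)) (Ne.symm (ne_of_mem_erase (Nf_sub hC hC.ha hy)))).1 hy),
      Finset.sum_congr rfl (fun y hy => (hA y (mem_of_mem_erase (mem_sdiff.1 hy).1) (Ne.symm (ne_of_mem_erase (mem_sdiff.1 hy).1))).2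
        (mem_sdiff.1 hy).2), Finset.sum_const, Finset.sum_const, Nf_card hC hC.ha,
      Finset.card_sdiff_of_subset (Nf_sub hC hC.ha), Finset.card_erase_of_mem hC.ha, card_Om hC.two.ne, Nf_card hC hC.ha] at h1
    simpa using h1

/-- the impossible case of blocks of size seven -/
theorem case_five (h7 : ¬ 7 ∣ Nat.card H) (hl : ∀ x ∈ Om p q, ∀ y ∈ Om p q, x ≠ y → (y ∈ Nf H a b x → Cn H p q a b x y = 5) ∧
    (y ∉ Nf H a b x → Cn H p q a b x y = 0)) : False := by
  have hsym : ∀ x ∈ Om p q, ∀ y ∈ Om p q, x ≠ y → y ∈ Nf H a b x → x ∈ Nf H a b y := by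
    intro x hx y hy hxy h1
    by_contra h2
    have h3 := (hl x hx y hy hxy).1 h1
    have h4 := (hl y hy x hx (Ne.symm hxy)).2 h2
    rw [Cn_comm, h3] at h4
    omega
  have hself : ∀ x, x ∉ Nf H a b x := by
    intro x hx
    obtain ⟨g, hg, h1, h2⟩ := mem_Nf.1 hx
    exact hC.hab (g.injective (h1.trans h2.symm))
  -- neighbours of a are mutually adjacent
  have hadj : ∀ x ∈ Nf H a b a, ∀ z ∈ Nf H a b a, x ≠ z → x ∈ Nf H a b z := by
    intro x hx z hz hxz
    have hxO := mem_of_mem_erase (Nf_sub hC hC.ha hx)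
    have hax : a ≠ x := Ne.symm (ne_of_mem_erase (Nf_sub hC hC.ha hx))
    have h1 := (hl a hC.ha x hxO hax).1 hx
    unfold Cn at h1
    have h2 : (Om p q).filter (fun z => a ∈ Nf H a b z ∧ x ∈ Nf H a b z) ⊆ (Nf H a b a).erase x := by
      intro w hw
      rw [mem_filter] at hw
      rw [mem_erase]
      refine ⟨fun e => hself x (by have := hw.2.2; rwa [e] at this), ?_⟩
      apply hsym w hw.1 a hC.ha _ hw.2.1
      intro e; exact hself a (by have := hw.2.1; rwa [e] at this)
    have h3 := Finset.eq_of_subset_of_card_le h2 (by rw [h1, Finset.card_erase_of_mem hx, Nf_card hC hC.ha])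
    have h4 : z ∈ (Nf H a b a).erase x := mem_erase.2 ⟨Ne.symm hxz, hz⟩
    rw [← h3, mem_filter] at h4
    exact h4.2.2
  have hB : ∀ x ∈ Nf H a b a, insert x (Nf H a b x) = insert a (Nf H a b a) := by
    intro x hx
    have hxO := mem_of_mem_erase (Nf_sub hC hC.ha hx)
    have hax : a ≠ x := Ne.symm (ne_of_mem_erase (Nf_sub hC hC.ha hx))
    symm
    apply Finset.eq_of_subset_of_card_le
    · intro y hy
      rw [mem_insert] at hy ⊢
      rcases hy with rfl | hy
      · right; exact hsym _ hC.ha x hxO hax hx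
      · by_cases hxy : y = x
        · left; exact hxy
        · right; exact hadj y hy x hx hxy
    · rw [Finset.card_insert_of_notMem (hself x), Finset.card_insert_of_notMem (hself a), Nf_card hC hxO, Nf_card hC hC.ha]
  -- the block stabiliser
  set B := insert a (Nf H a b a) with hBdef
  have hB7 : B.card = 7 := by rw [hBdef, Finset.card_insert_of_notMem (hself a), Nf_card hC hC.ha]
  set L := H ⊓ MulAction.stabilizer (Equiv.Perm GolayPt) B with hL
  have horb : orbF L a = B := by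
    apply Finset.Subset.antisymm
    · intro y hy
      obtain ⟨g, hg, rfl⟩ := mem_orbF.1 hy
      have h1 : g • B = B := hg.2
      rw [← h1, smul_mem_smul_iff', hBdef]; exact mem_insert_self _ _
    · intro y hy
      have hyO : y ∈ Om p q := by
        rw [hBdef, mem_insert] at hy
        rcases hy with rfl | hy
        · exact hC.ha
        · exact mem_of_mem_erase (Nf_sub hC hC.ha hy)
      obtain ⟨g, hg, h1⟩ := hC.tr y hyO
      refine mem_orbF.2 ⟨g, ⟨hg, ?_⟩, h1⟩
      show g • B = B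
      rw [hBdef, Finset.smul_finset_insert, ← Nf_eq_smul hg]
      show insert (g a) (Nf H a b (g a)) = _
      rw [h1]
      rw [hBdef, mem_insert] at hy
      rcases hy with rfl | hy
      · rfl
      · exact hB y hy
  have h1 := card_orbF L a
  rw [horb, hB7] at h1
  have h2 : 7 ∣ Nat.card L := ⟨_, h1⟩
  exact h7 (h2.trans (Subgroup.card_dvd_of_le inf_le_left))

omit hC in
theorem p_orbit (h : Two H p q) {P : Subgroup (Equiv.Perm GolayPt)} (hP : P ≤ H) (hPc : Nat.card P = 11) {x : GolayPt} (hx : x ∈ Om p q) :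
    (orbF P x).card = 11 := by
  have h1 := card_orbF P x
  rw [hPc] at h1
  have h2 : (orbF P x).card ∣ 11 := ⟨_, h1⟩
  rcases (Nat.dvd_prime (by norm_num : Nat.Prime 11)).1 h2 with h3 | h3
  · exfalso
    obtain ⟨y, hy⟩ := Finset.card_eq_one.1 h3
    have h4 : x ∈ fixS P (Om p q) := by
      rw [mem_fixS]
      refine ⟨hx, fun g hg => ?_⟩
      have h5 : g x ∈ orbF P x := mem_orbF.2 ⟨g, hg, rfl⟩
      have h6 := self_orbF P x
      rw [hy, mem_singleton] at h5 h6
      rw [h5, h6]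
    rw [fix11_empty h hP hPc] at h4
    simp at h4
  · exact h3

/-- the second case -/
theorem case_zero (h11 : 11 ∣ Nat.card H) (hl : ∀ x ∈ Om p q, ∀ y ∈ Om p q, x ≠ y → (y ∈ Nf H a b x → Cn H p q a b x y = 0) ∧
    (y ∉ Nf H a b x → Cn H p q a b x y = 2)) : False := by
  have : Fact (Nat.Prime 11) := ⟨by norm_num⟩
  obtain ⟨P, hP, hPc⟩ := exists_sub H 11 1 (by simpa using h11)
  rw [pow_one] at hPc
  set X := orbF P a with hX
  have hX11 : X.card = 11 := p_orbit hC.two hP hPc hC.ha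
  have hXO : X ⊆ Om p q := orbF_Om hC.two hP hC.ha
  obtain ⟨y0, hy0, hy0X⟩ := Finset.exists_mem_notMem_of_card_lt_card (show X.card < (Om p q).card by rw [hX11, card_Om hC.two.ne]; norm_num)
  set Y := orbF P y0 with hY
  have hY11 : Y.card = 11 := p_orbit hC.two hP hPc hy0
  have hdis : Disjoint X Y := by
    rw [Finset.disjoint_left]
    intro z hz hz'
    obtain ⟨g, hg, h1⟩ := mem_orbF.1 hz
    obtain ⟨k, hk, h2⟩ := mem_orbF.1 hz'
    apply hy0X
    refine mem_orbF.2 ⟨k⁻¹ * g, P.mul_mem (P.inv_mem hk) hg, ?_⟩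
    rw [Equiv.Perm.mul_apply, h1, ← h2]; simp
  have hXY : X ∪ Y = Om p q := by
    apply Finset.eq_of_subset_of_card_le
    · exact Finset.union_subset hXO (orbF_Om hC.two hP hy0)
    · rw [Finset.card_union_of_disjoint hdis, hX11, hY11, card_Om hC.two.ne]
  have hXinv : ∀ g ∈ P, g • X = X := by
    intro g hg
    apply Finset.eq_of_subset_of_card_le
    · intro x hx
      obtain ⟨y, hy, rfl⟩ := Finset.mem_smul_finset.1 hx
      exact orbF_inv hg hy
    · rw [Finset.card_smul_finset]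
  -- the numbers
  have hconst : ∀ x y, (∃ g ∈ P, g x = y) → (X ∩ Nf H a b y).card = (X ∩ Nf H a b x).card := by
    rintro x y ⟨g, hg, rfl⟩
    rw [Nf_eq_smul (hP hg)]
    conv_lhs => rw [← hXinv g hg]
    rw [← Finset.smul_finset_inter, Finset.card_smul_finset]
  set α := (X ∩ Nf H a b a).card with hα
  set β := (X ∩ Nf H a b y0).card with hβ
  have hcX : ∀ x ∈ X, (X ∩ Nf H a b x).card = α := fun x hx => hconst a x (mem_orbF.1 hx)
  have hcY : ∀ y ∈ Y, (X ∩ Nf H a b y).card = β := fun y hy => hconst y0 y (mem_orbF.1 hy)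
  have hα6 : α ≤ 6 := by
    rw [hα, ← Nf_card hC hC.ha]; exact Finset.card_le_card Finset.inter_subset_right
  -- first count
  have c1 : 11 * α + 11 * β = 66 := by
    have h1 : ∑ x ∈ X, ((Om p q).filter (fun z => x ∈ Nf H a b z)).card = ∑ z ∈ Om p q, (X ∩ Nf H a b z).card := by
      refine (Finset.sum_card_bipartiteAbove_eq_sum_card_bipartiteBelow (s := X) (t := Om p q) (fun x z => x ∈ Nf H a b z)).trans ?_
      rfl
    rw [Finset.sum_congr rfl (fun x hx => in_card hC (hXO hx)), Finset.sum_const, hX11, ← hXY, Finset.sum_union hdis,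
      Finset.sum_congr rfl hcX, Finset.sum_congr rfl hcY, Finset.sum_const, Finset.sum_const, hX11, hY11] at h1
    simp only [smul_eq_mul] at h1
    omega
  -- second count
  have c2 : 11 * (α * α) + 11 * (β * β) = 66 + 11 * (2 * (10 - α)) := by
    have h1 : ∑ x ∈ X, ∑ y ∈ X, Cn H p q a b x y = ∑ z ∈ Om p q, (X ∩ Nf H a b z).card * (X ∩ Nf H a b z).card := by
      have h2 : ∀ x ∈ X, ∑ y ∈ X, Cn H p q a b x y = ∑ z ∈ Om p q, if x ∈ Nf H a b z then (X ∩ Nf H a b z).card else 0 := by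
        intro x _
        rw [sum_Cn hC, Finset.sum_filter]
      rw [Finset.sum_congr rfl h2, Finset.sum_comm]
      apply Finset.sum_congr rfl
      intro z _
      rw [← Finset.sum_filter, Finset.sum_const, smul_eq_mul]
      rfl
    have h3 : ∀ x ∈ X, ∑ y ∈ X, Cn H p q a b x y = 6 + 2 * (10 - α) := by
      intro x hx
      rw [← Finset.add_sum_erase X _ hx]
      have e1 : Cn H p q a b x x = 6 := by
        unfold Cn
        simp only [and_self]
        exact in_card hC (hXO hx)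
      rw [e1]
      congr 1
      have e2 : X.erase x = (X ∩ Nf H a b x) ∪ (X.erase x \ Nf H a b x) := by
        ext y
        rw [mem_union, mem_inter, mem_sdiff, mem_erase]
        constructor
        · rintro ⟨h4, h5⟩
          by_cases h6 : y ∈ Nf H a b x
          · exact Or.inl ⟨h5, h6⟩
          · exact Or.inr ⟨⟨h4, h5⟩, h6⟩
        · rintro (⟨h4, h5⟩ | ⟨h4, _⟩)
          · exact ⟨ne_of_mem_erase (Nf_sub hC (hXO hx) h5), h4⟩
          · exact h4
      have e3 : Disjoint (X ∩ Nf H a b x) (X.erase x \ Nf H a b x) := by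
        rw [Finset.disjoint_left]
        intro y hy hy'
        exact (mem_sdiff.1 hy').2 (mem_inter.1 hy).2
      have e4 : (X.erase x).card = (X ∩ Nf H a b x).card + (X.erase x \ Nf H a b x).card := by
        conv_lhs => rw [e2]
        exact Finset.card_union_of_disjoint e3
      rw [Finset.card_erase_of_mem hx, hX11, hcX x hx] at e4
      rw [e2, Finset.sum_union e3]
      have e5 : ∑ y ∈ X ∩ Nf H a b x, Cn H p q a b x y = 0 := by
        apply Finset.sum_eq_zero
        intro y hy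
        rw [mem_inter] at hy
        exact (hl x (hXO hx) y (hXO hy.1) (Ne.symm (ne_of_mem_erase (Nf_sub hC (hXO hx) hy.2)))).1 hy.2
      have e6 : ∑ y ∈ X.erase x \ Nf H a b x, Cn H p q a b x y = (X.erase x \ Nf H a b x).card * 2 := by
        rw [Finset.sum_congr rfl (fun y hy => ?_) (g := fun _ => 2), Finset.sum_const, smul_eq_mul]
        rw [mem_sdiff, mem_erase] at hy
        exact (hl x (hXO hx) y (hXO hy.1.2) (Ne.symm hy.1.1)).2 hy.2
      rw [e5, e6]
      omega
    rw [Finset.sum_congr rfl h3, Finset.sum_const, hX11, ← hXY, Finset.sum_union hdis,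
      Finset.sum_congr rfl (fun z hz => by rw [hcX z hz] : ∀ z ∈ X, (X ∩ Nf H a b z).card * (X ∩ Nf H a b z).card = α * α),
      Finset.sum_congr rfl (fun z hz => by rw [hcY z hz] : ∀ z ∈ Y, (X ∩ Nf H a b z).card * (X ∩ Nf H a b z).card = β * β),
      Finset.sum_const, Finset.sum_const, hX11, hY11] at h1
    simp only [smul_eq_mul] at h1
    omega
  have hβ' : β = 6 - α := by omega
  rw [hβ'] at c2
  clear_value α
  interval_cases α <;> omega

omit hC in
theorem not_7920 (h : Two H p q) : Nat.card H ≠ 7920 := by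
  intro hc
  obtain ⟨a, b, hC⟩ := exists_cfg h hc
  obtain ⟨l, m, h1, h2⟩ := Cn_vals hC
  have h3 : (l = 5 ∧ m = 0) ∨ (l = 0 ∧ m = 2) := by omega
  rcases h3 with ⟨rfl, rfl⟩ | ⟨rfl, rfl⟩
  · exact case_five hC (by rw [hc]; norm_num) h1
  · exact case_zero hC (by rw [hc]; norm_num) h1

end Cfsg.Agent.Lib.M22Sub
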