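import Cfsg.Agent.Lib.M22Sub.Fix

/-!
Normalisers of subgroups of order 11 and 7 in groups acting on 22 points.
-/

set_option autoImplicit false

namespace Cfsg.Agent.Lib.M22Sub

open Cfsg Finset
open scoped Pointwise
open Cfsg.Agent.Lib.Golay

/-- the groups in question -/
structure Two (H : Subgroup (Equiv.Perm GolayPt)) (p q : GolayPt) : Prop where
  le : H ≤ M24
  ne : p ≠ q
  hp : ∀ g ∈ H, g p = p
  hq : ∀ g ∈ H, g q = q

variable {H : Subgroup (Equiv.Perm GolayPt)} {p q : GolayPt}

/-- an element of order 11 and an involution do not commute -/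
theorem no_comm11 (h : Two H p q) {s t : Equiv.Perm GolayPt} (hs : s ∈ H) (ht : t ∈ H) (s11 : s ^ 11 = 1) (s1 : s ≠ 1)
    (t2 : t * t = 1) (t1 : t ≠ 1) (hc : s * t = t * s) : False := by
  have : Fact (Nat.Prime 11) := ⟨by norm_num⟩
  have h8 := fix2 (h.le ht) t2 t1 (h.hp t ht)
  set F := Finset.univ.filter fun x => t x = x with hF
  have hinv : ∀ y ∈ F, s y ∈ F := by
    intro y hy
    rw [hF, mem_filter] at hy ⊢
    refine ⟨mem_univ _, ?_⟩
    have : t (s y) = s (t y) := congrArg (fun g : Equiv.Perm GolayPt => g y) hc.symm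
    rw [this, hy.2]
  have h1 := fix_mod_elt s11 hinv
  have h2 := fix11 (h.le hs) s11 s1
  have h3 : (F.filter (fun y => s y = y)).card ≤ 2 := by
    rw [← h2]
    apply Finset.card_le_card
    intro x hx
    rw [mem_filter] at hx ⊢
    exact ⟨mem_univ _, hx.2⟩
  rw [h8] at h1
  unfold Nat.ModEq at h1
  omega

/-- an element of order 7 is not normalised by an involution -/
theorem no_norm7 (h : Two H p q) {s t : Equiv.Perm GolayPt} (hs : s ∈ H) (ht : t ∈ H) (s7 : s ^ 7 = 1) (s1 : s ≠ 1)
    (t2 : t * t = 1) (t1 : t ≠ 1) (hc : t * s = s * t ∨ t * s = s⁻¹ * t) : False := by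
  have : Fact (Nat.Prime 7) := ⟨by norm_num⟩
  have h8 := fix2 (h.le ht) t2 t1 (h.hp t ht)
  set F := Finset.univ.filter fun x => t x = x with hF
  have h3 := fix7 (h.le hs) s7 s1
  have hfx : (F.filter (fun y => s y = y)).card ≤ 3 := by
    rw [← h3]
    apply Finset.card_le_card
    intro x hx
    rw [mem_filter] at hx ⊢
    exact ⟨mem_univ _, hx.2⟩
  -- the third fixed point
  have hpq : ({p, q} : Finset GolayPt) ⊆ F.filter (fun y => s y = y) := by
    intro x hx
    rw [mem_insert, mem_singleton] at hx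
    rw [mem_filter, hF, mem_filter]
    rcases hx with rfl | rfl
    · exact ⟨⟨mem_univ _, h.hp t ht⟩, h.hp s hs⟩
    · exact ⟨⟨mem_univ _, h.hq t ht⟩, h.hq s hs⟩
  rcases hc with hc | hc
  · have hinv : ∀ y ∈ F, s y ∈ F := by
      intro y hy
      rw [hF, mem_filter] at hy ⊢
      refine ⟨mem_univ _, ?_⟩
      have : t (s y) = s (t y) := congrArg (fun g : Equiv.Perm GolayPt => g y) hc
      rw [this, hy.2]
    have h1 := fix_mod_elt s7 hinv
    rw [h8] at h1
    have h4 := Finset.card_le_card hpq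
    rw [Finset.card_pair h.ne] at h4
    unfold Nat.ModEq at h1
    omega
  · set F' := F.filter (fun y => ¬ s y = y) with hF'
    have h5 : 5 ≤ F'.card := by
      have := Finset.card_filter_add_card_filter_not (s := F) (fun y => s y = y)
      rw [← hF'] at this
      omega
    have hconj : ∀ k : ℕ, t * s ^ k = s⁻¹ ^ k * t := by
      intro k
      induction k with
      | zero => simp
      | succ k ih => rw [pow_succ, ← mul_assoc, ih, mul_assoc, hc, ← mul_assoc, ← pow_succ]
    have key : ∀ x ∈ F', ∀ y ∈ F', ∀ k < 7, (s ^ k) x = y → k = 0 := by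
      intro x hx y hy k hk e
      rw [hF', mem_filter, hF, mem_filter] at hx hy
      by_contra hk0
      have e1 : (t * s ^ k) x = (s⁻¹ ^ k * t) x := by rw [hconj]
      rw [Equiv.Perm.mul_apply, Equiv.Perm.mul_apply, e, hy.1.2, hx.1.2, ← e] at e1
      have e2 : (s ^ (2 * k)) x = x := by
        have : (s ^ k) ((s ^ k) x) = (s ^ k) ((s⁻¹ ^ k) x) := by rw [e1]
        rw [← Equiv.Perm.mul_apply, ← Equiv.Perm.mul_apply, ← pow_add, inv_pow, mul_inv_cancel] at this
        rw [two_mul]; exact this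
      have e3 : s x = x := by
        have hcop : Nat.Coprime (2 * k) 7 := by
          have : ∀ k < 7, k ≠ 0 → Nat.Coprime (2 * k) 7 := by decide
          exact this k hk hk0
        have m1 : s ^ (2 * k) ∈ MulAction.stabilizer (Equiv.Perm GolayPt) x := e2
        have m2 : s ^ 7 ∈ MulAction.stabilizer (Equiv.Perm GolayPt) x := by rw [s7]; exact Subgroup.one_mem _
        have hb := Nat.gcd_eq_gcd_ab (2 * k) 7
        rw [hcop.gcd_eq_one] at hb
        have m3 : s ∈ MulAction.stabilizer (Equiv.Perm GolayPt) x := by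
          have e4 : s = (s ^ (2 * k)) ^ (Nat.gcdA (2 * k) 7) * (s ^ 7) ^ (Nat.gcdB (2 * k) 7) := by
            rw [← zpow_natCast s (2 * k), ← zpow_natCast s 7, ← zpow_mul, ← zpow_mul, ← zpow_add, ← hb]
            simp
          rw [e4]
          exact Subgroup.mul_mem _ (Subgroup.zpow_mem _ m1 _) (Subgroup.zpow_mem _ m2 _)
        exact m3
      exact hx.2 e3
    have hinj : Set.InjOn (fun a : ℕ × GolayPt => (s ^ a.1) a.2) ((Finset.range 7 ×ˢ F' : Finset (ℕ × GolayPt)) : Set (ℕ × GolayPt)) := by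
      rintro ⟨i, x⟩ hix ⟨j, y⟩ hjy e
      rw [Finset.mem_coe, mem_product, mem_range] at hix hjy
      have e' : (s ^ i) x = (s ^ j) y := e
      rcases le_total i j with hij | hij
      · have e1 : x = (s ^ (j - i)) y := by
          apply (s ^ i).injective
          rw [e', ← Equiv.Perm.mul_apply, ← pow_add]
          congr 2; omega
        have := key y hjy.2 x hix.2 (j - i) (by omega) e1.symm
        have hij' : i = j := by omega
        subst hij'
        rw [(s ^ i).injective e']
      · have e1 : y = (s ^ (i - j)) x := by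
          apply (s ^ j).injective
          rw [← e', ← Equiv.Perm.mul_apply, ← pow_add]
          congr 2; omega
        have := key x hix.2 y hjy.2 (i - j) (by omega) e1.symm
        have hij' : i = j := by omega
        subst hij'
        rw [(s ^ i).injective e']
    have h6 := Finset.card_image_of_injOn hinj
    have h7 : ((Finset.range 7 ×ˢ F').image (fun a : ℕ × GolayPt => (s ^ a.1) a.2)).card ≤ 24 := by
      rw [← card_golayPt]; exact Finset.card_le_univ _
    rw [h6, Finset.card_product, Finset.card_range] at h7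
    omega

/-- Sylow data in numerical form -/
theorem sylow_num {G : Type*} [Group G] [Finite G] (r : ℕ) [Fact r.Prime] (hr : r ∣ Nat.card G) (hr2 : ¬ r * r ∣ Nat.card G) :
    ∃ P : Subgroup G, Nat.card P = r ∧ ∃ n, n % r = 1 ∧ n * Nat.card (Subgroup.normalizer (P : Set G)) = Nat.card G ∧
      r ∣ Nat.card (Subgroup.normalizer (P : Set G)) := by
  obtain ⟨P⟩ : Nonempty (Sylow r G) := inferInstance
  have hc : Nat.card P = r := by
    rw [Sylow.card_eq_multiplicity]
    have : (Nat.card G).factorization r = 1 := by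
      have hpr : r.Prime := Fact.out
      have h0 : Nat.card G ≠ 0 := Nat.card_pos.ne'
      apply le_antisymm
      · by_contra hc
        push Not at hc
        apply hr2
        rw [← sq]
        exact (hpr.pow_dvd_iff_le_factorization h0).2 hc
      · exact (hpr.pow_dvd_iff_le_factorization h0).1 (by rw [pow_one]; exact hr)
    rw [this, pow_one]
  refine ⟨P, hc, Nat.card (Sylow r G), ?_, ?_, ?_⟩
  · have := card_sylow_modEq_one r G
    unfold Nat.ModEq at this
    rw [this]
    exact Nat.mod_eq_of_lt (Fact.out : r.Prime).one_lt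
  · rw [Sylow.card_eq_index_normalizer P, mul_comm]
    exact Subgroup.card_mul_index _
  · have := Subgroup.card_dvd_of_le (Subgroup.le_normalizer (H := (P : Subgroup G)))
    rw [hc] at this
    exact this

theorem norm11 (h : Two H p q) {P : Subgroup H} (hP : Nat.card P = 11) :
    ¬ 4 ∣ Nat.card (Subgroup.normalizer (P : Set H)) := by
  intro h4
  have : Fact (Nat.Prime 11) := ⟨by norm_num⟩
  have : Fact (Nat.Prime 2) := ⟨by norm_num⟩
  set N := Subgroup.normalizer (P : Set H) with hN
  -- a generator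
  have hcyc : IsCyclic P := isCyclic_of_prime_card hP
  obtain ⟨⟨s, hsP⟩, hs⟩ := hcyc.exists_generator
  have hs11 : s ^ 11 = 1 := by
    have : (⟨s, hsP⟩ : P) ^ 11 = 1 := by rw [← hP]; exact pow_card_eq_one'
    exact congrArg Subtype.val this
  have hs1 : s ≠ 1 := by
    intro e
    have h1 : Nat.card P = 1 := by
      rw [Nat.card_eq_one_iff_unique]
      refine ⟨⟨fun a b => ?_⟩, ⟨1⟩⟩
      obtain ⟨i, hi⟩ := Subgroup.mem_zpowers_iff.1 (hs a)
      obtain ⟨j, hj⟩ := Subgroup.mem_zpowers_iff.1 (hs b)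
      have e' : (⟨s, hsP⟩ : P) = 1 := Subtype.ext e
      rw [← hi, ← hj, e', one_zpow, one_zpow]
    omega
  -- the action on P
  let φ : N →* MulAut P := Subgroup.normalizerMonoidHom P
  have hdiv : Nat.card φ.range ∣ 10 := by
    have h1 := Subgroup.card_subgroup_dvd_card φ.range
    have h2 : Nat.card (MulAut P) = 10 := by
      rw [IsCyclic.card_mulAut, hP]; rfl
    rwa [h2] at h1
  have hker : 2 ∣ Nat.card φ.ker := by
    have h1 := Subgroup.card_eq_card_quotient_mul_card_subgroup φ.ker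
    rw [Nat.card_congr (QuotientGroup.quotientKerEquivRange φ).toEquiv] at h1
    have h4' : 4 ∣ Nat.card φ.range * Nat.card φ.ker := by rw [← h1]; exact h4
    by_contra hc
    have hcop : Nat.Coprime 4 (Nat.card φ.ker) := by
      have : Nat.Coprime 2 (Nat.card φ.ker) := (Nat.Prime.coprime_iff_not_dvd Nat.prime_two).2 hc
      exact Nat.Coprime.pow_left 2 this
    have := hcop.dvd_of_dvd_mul_right h4'
    have := this.trans hdiv
    revert this; decide
  obtain ⟨t, ht⟩ := exists_prime_orderOf_dvd_card' 2 hker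
  have ht2 := orderOf_eq_prime_iff.1 ht
  set t' : Equiv.Perm GolayPt := (((t : N) : H) : Equiv.Perm GolayPt) with ht'
  have hcomm : s * ((t : N) : H) = ((t : N) : H) * s := by
    have h1 : φ (t : N) = 1 := t.2
    have h2 : φ (t : N) ⟨s, hsP⟩ = ⟨s, hsP⟩ := by rw [h1]; rfl
    have h3 : ((t : N) : H) * s * ((t : N) : H)⁻¹ = s := congrArg Subtype.val h2
    rw [mul_inv_eq_iff_eq_mul] at h3
    exact h3.symm
  refine no_comm11 h (s := (s : Equiv.Perm GolayPt)) (t := t') s.2 ((t : N) : H).2 ?_ ?_ ?_ ?_ ?_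
  · rw [← Subgroup.coe_pow, hs11]; rfl
  · intro e; exact hs1 (Subtype.ext e)
  · have h1 : t ^ 2 = 1 := ht2.1
    rw [sq] at h1
    exact congrArg (fun x : φ.ker => (((x : N) : H) : Equiv.Perm GolayPt)) h1
  · intro e
    apply ht2.2
    exact Subtype.ext (Subtype.ext (Subtype.ext e))
  · exact congrArg Subtype.val hcomm

theorem norm7 (h : Two H p q) {P : Subgroup H} (hP : Nat.card P = 7) :
    ¬ 2 ∣ Nat.card (Subgroup.normalizer (P : Set H)) := by
  intro h4
  have : Fact (Nat.Prime 7) := ⟨by norm_num⟩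
  have : Fact (Nat.Prime 2) := ⟨by norm_num⟩
  set N := Subgroup.normalizer (P : Set H) with hN
  have hcyc : IsCyclic P := isCyclic_of_prime_card hP
  obtain ⟨⟨s, hsP⟩, hs⟩ := hcyc.exists_generator
  have hs7 : s ^ 7 = 1 := by
    have : (⟨s, hsP⟩ : P) ^ 7 = 1 := by rw [← hP]; exact pow_card_eq_one'
    exact congrArg Subtype.val this
  have hs1 : s ≠ 1 := by
    intro e
    have h1 : Nat.card P = 1 := by
      rw [Nat.card_eq_one_iff_unique]
      refine ⟨⟨fun a b => ?_⟩, ⟨1⟩⟩
      obtain ⟨i, hi⟩ := Subgroup.mem_zpowers_iff.1 (hs a)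
      obtain ⟨j, hj⟩ := Subgroup.mem_zpowers_iff.1 (hs b)
      have e' : (⟨s, hsP⟩ : P) = 1 := Subtype.ext e
      rw [← hi, ← hj, e', one_zpow, one_zpow]
    omega
  obtain ⟨t, ht⟩ := exists_prime_orderOf_dvd_card' 2 h4
  have ht2 := orderOf_eq_prime_iff.1 ht
  have htt : (t : H) * (t : H) = 1 := by
    have h1 : t ^ 2 = 1 := ht2.1
    rw [sq] at h1
    exact congrArg Subtype.val h1
  have htinv : (t : H)⁻¹ = t := inv_eq_of_mul_eq_one_right htt
  -- exponent
  have hmem : (t : H) * s * (t : H)⁻¹ ∈ P := (Subgroup.mem_normalizer_iff.1 t.2 s).1 hsP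
  obtain ⟨i, hi⟩ := Subgroup.mem_zpowers_iff.1 (hs ⟨_, hmem⟩)
  have hi' : s ^ i = (t : H) * s * (t : H)⁻¹ := congrArg Subtype.val hi
  have hii : s ^ (i * i) = s := by
    rw [zpow_mul, hi', conj_zpow, hi', htinv]
    calc (t : H) * ((t : H) * s * (t : H)) * (t : H) = ((t : H) * (t : H)) * s * ((t : H) * (t : H)) := by group
      _ = s := by rw [htt, one_mul, mul_one]
  have hord : orderOf s = 7 := orderOf_eq_prime hs7 hs1
  have hdvd : (7 : ℤ) ∣ i * i - 1 := by
    have h1 : s ^ (i * i - 1) = 1 := by rw [zpow_sub, hii, zpow_one, mul_inv_cancel]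
    have := orderOf_dvd_iff_zpow_eq_one.2 h1
    rwa [hord] at this
  have h5 : (7 : ℤ) ∣ i - 1 ∨ (7 : ℤ) ∣ i + 1 := by
    have h6 : (7 : ℤ) ∣ (i - 1) * (i + 1) := by
      have : (i - 1) * (i + 1) = i * i - 1 := by ring
      rw [this]; exact hdvd
    exact (Int.prime_iff_natAbs_prime.2 (by norm_num : Nat.Prime (Int.natAbs 7))).dvd_or_dvd h6
  have hcase : (t : H) * s = s * t ∨ (t : H) * s = s⁻¹ * t := by
    rcases h5 with h5 | h5
    · left
      have h6 : s ^ (i - 1) = 1 := by
        apply orderOf_dvd_iff_zpow_eq_one.1; rw [hord]; exact h5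
      have h7 : s ^ i = s := by
        have : s ^ i = s ^ (i - 1) * s := by rw [← zpow_add_one]; congr 1; ring
        rw [this, h6, one_mul]
      rw [h7, eq_mul_inv_iff_mul_eq] at hi'
      exact hi'.symm
    · right
      have h6 : s ^ (i + 1) = 1 := by
        apply orderOf_dvd_iff_zpow_eq_one.1; rw [hord]; exact h5
      have h7 : s ^ i = s⁻¹ := by
        have : s ^ (i + 1) = s ^ i * s := zpow_add_one s i
        rw [this] at h6
        exact eq_inv_of_mul_eq_one_left h6
      rw [h7, eq_mul_inv_iff_mul_eq] at hi'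
      exact hi'.symm
  refine no_norm7 h (s := (s : Equiv.Perm GolayPt)) (t := ((t : H) : Equiv.Perm GolayPt)) s.2 (t : H).2 ?_ ?_ ?_ ?_ ?_
  · rw [← Subgroup.coe_pow, hs7]; rfl
  · intro e; exact hs1 (Subtype.ext e)
  · exact congrArg Subtype.val htt
  · intro e
    apply ht2.2
    exact Subtype.ext (Subtype.ext e)
  · rcases hcase with hc | hc
    · left; exact congrArg Subtype.val hc
    · right; exact congrArg Subtype.val hc

theorem not_2112 (h : Two H p q) : Nat.card H ≠ 2112 := by
  intro hc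
  have : Fact (Nat.Prime 11) := ⟨by norm_num⟩
  obtain ⟨P, hP, n, hn, he, hd⟩ := sylow_num (G := H) 11 (by rw [hc]; norm_num) (by rw [hc]; norm_num)
  have h4 := norm11 h hP
  rw [hc] at he
  have hd2 : Nat.card (Subgroup.normalizer (P : Set H)) ∣ 2112 := ⟨n, by rw [← he]; ring⟩
  have key : ∀ m ∈ Nat.divisors 2112, ¬ 4 ∣ m → ¬ ((2112 / m) % 11 = 1 ∧ 11 ∣ m) := by decide +kernel
  apply key _ (Nat.mem_divisors.2 ⟨hd2, by norm_num⟩) h4
  refine ⟨?_, hd⟩
  have : 2112 / Nat.card (Subgroup.normalizer (P : Set H)) = n := by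
    rw [← he]; exact Nat.mul_div_cancel _ Nat.card_pos
  rw [this, hn]

theorem not_9856 (h : Two H p q) : Nat.card H ≠ 9856 := by
  intro hc
  have : Fact (Nat.Prime 11) := ⟨by norm_num⟩
  obtain ⟨P, hP, n, hn, he, hd⟩ := sylow_num (G := H) 11 (by rw [hc]; norm_num) (by rw [hc]; norm_num)
  have h4 := norm11 h hP
  rw [hc] at he
  have hd2 : Nat.card (Subgroup.normalizer (P : Set H)) ∣ 9856 := ⟨n, by rw [← he]; ring⟩
  have key : ∀ m ∈ Nat.divisors 9856, ¬ 4 ∣ m → ¬ ((9856 / m) % 11 = 1 ∧ 11 ∣ m) := by decide +kernel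
  apply key _ (Nat.mem_divisors.2 ⟨hd2, by norm_num⟩) h4
  refine ⟨?_, hd⟩
  have : 9856 / Nat.card (Subgroup.normalizer (P : Set H)) = n := by
    rw [← he]; exact Nat.mul_div_cancel _ Nat.card_pos
  rw [this, hn]

theorem not_36960 (h : Two H p q) : Nat.card H ≠ 36960 := by
  intro hc
  have : Fact (Nat.Prime 7) := ⟨by norm_num⟩
  obtain ⟨P, hP, n, hn, he, hd⟩ := sylow_num (G := H) 7 (by rw [hc]; norm_num) (by rw [hc]; norm_num)
  have h4 := norm7 h hP
  rw [hc] at he
  have hd2 : Nat.card (Subgroup.normalizer (P : Set H)) ∣ 36960 := ⟨n, by rw [← he]; ring⟩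
  have key : ∀ m ∈ Nat.divisors 36960, ¬ 2 ∣ m → ¬ ((36960 / m) % 7 = 1 ∧ 7 ∣ m) := by decide +kernel
  apply key _ (Nat.mem_divisors.2 ⟨hd2, by norm_num⟩) h4
  refine ⟨?_, hd⟩
  have : 36960 / Nat.card (Subgroup.normalizer (P : Set H)) = n := by
    rw [← he]; exact Nat.mul_div_cancel _ Nat.card_pos
  rw [this, hn]

end Cfsg.Agent.Lib.M22Sub
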