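import Cfsg.Agent.Lib.M22Sub.Norm

/-!
No subgroup of order 7920.
-/

set_option autoImplicit false

namespace Cfsg.Agent.Lib.M22Sub

open Cfsg Finset
open scoped Pointwise
open Cfsg.Agent.Lib.Golay

/-- the 22 points -/
def Om (p q : GolayPt) : Finset GolayPt := Finset.univ.filter (fun x => x ≠ p ∧ x ≠ q)

theorem mem_Om {p q x : GolayPt} : x ∈ Om p q ↔ x ≠ p ∧ x ≠ q := by unfold Om; simp

theorem card_Om {p q : GolayPt} (h : p ≠ q) : (Om p q).card = 22 := by
  have : Om p q = Finset.univ \ {p, q} := by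
    ext x; rw [mem_Om]; simp
  rw [this, Finset.card_sdiff_of_subset (Finset.subset_univ _), Finset.card_univ, card_golayPt, Finset.card_pair h]

open Classical in
noncomputable def orbF (L : Subgroup (Equiv.Perm GolayPt)) (x : GolayPt) : Finset GolayPt :=
  Finset.univ.filter (fun y => ∃ g ∈ L, g x = y)

theorem mem_orbF {L : Subgroup (Equiv.Perm GolayPt)} {x y : GolayPt} : y ∈ orbF L x ↔ ∃ g ∈ L, g x = y := by
  classical
  unfold orbF
  rw [Finset.mem_filter]
  simp

theorem card_orbF (L : Subgroup (Equiv.Perm GolayPt)) (x : GolayPt) :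
    Nat.card L = (orbF L x).card * Nat.card ↥(L ⊓ MulAction.stabilizer (Equiv.Perm GolayPt) x) := by
  have h := card_eq_orbit_mul L x
  have e : MulAction.orbit L x = (orbF L x : Set GolayPt) := by
    ext y
    rw [Finset.mem_coe, mem_orbF]
    constructor
    · rintro ⟨g, rfl⟩; exact ⟨g, g.2, rfl⟩
    · rintro ⟨g, hg, rfl⟩; exact ⟨⟨g, hg⟩, rfl⟩
  rw [e, Set.ncard_coe_finset] at h
  exact h

theorem self_orbF (L : Subgroup (Equiv.Perm GolayPt)) (x : GolayPt) : x ∈ orbF L x := mem_orbF.2 ⟨1, L.one_mem, rfl⟩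

theorem orbF_inv {L : Subgroup (Equiv.Perm GolayPt)} {x y : GolayPt} {g : Equiv.Perm GolayPt} (hg : g ∈ L) (hy : y ∈ orbF L x) :
    g y ∈ orbF L x := by
  obtain ⟨k, hk, rfl⟩ := mem_orbF.1 hy
  exact mem_orbF.2 ⟨g * k, L.mul_mem hg hk, rfl⟩

theorem orbF_trans {L : Subgroup (Equiv.Perm GolayPt)} {x y z : GolayPt} (hy : y ∈ orbF L x) (hz : z ∈ orbF L x) :
    ∃ g ∈ L, g y = z := by
  obtain ⟨k, hk, rfl⟩ := mem_orbF.1 hy
  obtain ⟨l, hl, rfl⟩ := mem_orbF.1 hz
  exact ⟨l * k⁻¹, L.mul_mem hl (L.inv_mem hk), by simp⟩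

theorem exists_sub (L : Subgroup (Equiv.Perm GolayPt)) (r k : ℕ) [Fact r.Prime] (hd : r ^ k ∣ Nat.card L) :
    ∃ S ≤ L, Nat.card S = r ^ k := by
  obtain ⟨S, hS⟩ := Sylow.exists_subgroup_card_pow_prime r hd
  refine ⟨S.map L.subtype, ?_, ?_⟩
  · rintro _ ⟨g, _, rfl⟩; exact g.2
  · rw [← hS]
    exact (Nat.card_congr (Subgroup.equivMapOfInjective S L.subtype L.subtype_injective).toEquiv).symm

variable {H : Subgroup (Equiv.Perm GolayPt)} {p q : GolayPt}

theorem Om_inv (h : Two H p q) {g : Equiv.Perm GolayPt} (hg : g ∈ H) {x : GolayPt} (hx : x ∈ Om p q) : g x ∈ Om p q := by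
  rw [mem_Om] at hx ⊢
  refine ⟨fun e => hx.1 ?_, fun e => hx.2 ?_⟩
  · apply g.injective; rw [e, h.hp g hg]
  · apply g.injective; rw [e, h.hq g hg]

theorem orbF_Om (h : Two H p q) {L : Subgroup (Equiv.Perm GolayPt)} (hL : L ≤ H) {x : GolayPt} (hx : x ∈ Om p q) :
    orbF L x ⊆ Om p q := by
  intro y hy
  obtain ⟨g, hg, rfl⟩ := mem_orbF.1 hy
  exact Om_inv h (hL hg) hx

theorem fixS_mono {L : Subgroup (Equiv.Perm GolayPt)} {X Y : Finset GolayPt} (hXY : X ⊆ Y) : fixS L X ⊆ fixS L Y := by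
  intro x hx
  rw [mem_fixS] at hx ⊢
  exact ⟨hXY hx.1, hx.2⟩

theorem fixS_Om_le (h : Two H p q) {L : Subgroup (Equiv.Perm GolayPt)} {s : Equiv.Perm GolayPt} (hs : s ∈ L) (hsH : s ∈ H) :
    (fixS L (Om p q)).card + 2 ≤ (Finset.univ.filter (fun x => s x = x)).card := by
  have h1 : fixS L (Om p q) ∪ {p, q} ⊆ Finset.univ.filter (fun x => s x = x) := by
    intro x hx
    rw [mem_union, mem_fixS, mem_insert, mem_singleton] at hx
    rw [mem_filter]
    refine ⟨mem_univ _, ?_⟩
    rcases hx with hx | rfl | rfl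
    · exact hx.2 s hs
    · exact h.hp s hsH
    · exact h.hq s hsH
  have h2 := Finset.card_le_card h1
  rw [Finset.card_union_of_disjoint, Finset.card_pair h.ne] at h2
  · exact h2
  · rw [Finset.disjoint_left]
    intro x hx hx'
    rw [mem_fixS, mem_Om] at hx
    rw [mem_insert, mem_singleton] at hx'
    rcases hx' with h' | h'
    · exact hx.1.1 h'
    · exact hx.1.2 h'

theorem isP {L : Subgroup (Equiv.Perm GolayPt)} {r k : ℕ} [Fact r.Prime] (hc : Nat.card L = r ^ k) : IsPGroup r L :=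
  IsPGroup.of_card hc

theorem exists_gen {L : Subgroup (Equiv.Perm GolayPt)} {r : ℕ} [Fact r.Prime] (hc : Nat.card L = r) : ∃ s ∈ L, s ^ r = 1 ∧ s ≠ 1 := by
  obtain ⟨s, hs⟩ := exists_prime_orderOf_dvd_card' (G := L) r (by rw [hc])
  have := orderOf_eq_prime_iff.1 hs
  exact ⟨s, s.2, congrArg Subtype.val this.1, fun e => this.2 (Subtype.ext e)⟩

/-- no fixed points for a group of order 11 -/
theorem fix11_empty (h : Two H p q) {P : Subgroup (Equiv.Perm GolayPt)} (hP : P ≤ H) (hc : Nat.card P = 11) :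
    fixS P (Om p q) = ∅ := by
  have : Fact (Nat.Prime 11) := ⟨by norm_num⟩
  obtain ⟨s, hs, h1, h2⟩ := exists_gen hc
  have h3 := fixS_Om_le h hs (hP hs)
  rw [fix11 (h.le (hP hs)) h1 h2] at h3
  rw [← Finset.card_eq_zero]; omega

theorem fix9_one (h : Two H p q) {S : Subgroup (Equiv.Perm GolayPt)} (hS : S ≤ H) (hc : Nat.card S = 9) :
    (fixS S (Om p q)).card = 1 := by
  have : Fact (Nat.Prime 3) := ⟨by norm_num⟩
  have h1 := fix9 (hS.trans h.le) hc
  have h2 : fixS S (Om p q) ∪ {p, q} ⊆ fixS S Finset.univ := by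
    intro x hx
    rw [mem_union, mem_insert, mem_singleton] at hx
    rw [mem_fixS]
    refine ⟨mem_univ _, fun g hg => ?_⟩
    rcases hx with hx | rfl | rfl
    · exact (mem_fixS.1 hx).2 g hg
    · exact h.hp g (hS hg)
    · exact h.hq g (hS hg)
  have h3 := Finset.card_le_card h2
  rw [Finset.card_union_of_disjoint, Finset.card_pair h.ne] at h3
  · have h4 := fix_mod (p := 3) (isP (k := 2) hc) (Y := Om p q) (fun g hg y hy => Om_inv h (hS hg) hy)
    rw [card_Om h.ne] at h4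
    unfold Nat.ModEq at h4
    omega
  · rw [Finset.disjoint_left]
    intro x hx hx'
    rw [mem_fixS, mem_Om] at hx
    rw [mem_insert, mem_singleton] at hx'
    rcases hx' with h' | h'
    · exact hx.1.1 h'
    · exact hx.1.2 h'

/-- transitivity on the 22 points -/
theorem trans22 (h : Two H p q) (h11 : 11 ∣ Nat.card H) (h9 : 9 ∣ Nat.card H) {x : GolayPt} (hx : x ∈ Om p q) :
    orbF H x = Om p q := by
  have : Fact (Nat.Prime 11) := ⟨by norm_num⟩
  have : Fact (Nat.Prime 3) := ⟨by norm_num⟩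
  obtain ⟨P, hP, hPc⟩ := exists_sub H 11 1 (by simpa using h11)
  obtain ⟨S, hS, hSc⟩ := exists_sub H 3 2 (by simpa using h9)
  have hsub := orbF_Om h le_rfl hx
  have h1 := fix_mod (p := 11) (isP hPc) (Y := orbF H x) (fun g hg y hy => orbF_inv (hP hg) hy)
  have h2 : (fixS P (orbF H x)).card = 0 := by
    have := Finset.card_le_card (fixS_mono (L := P) hsub)
    rw [fix11_empty h hP (by simpa using hPc), Finset.card_empty] at this
    omega
  have h3 := fix_mod (p := 3) (isP hSc) (Y := orbF H x) (fun g hg y hy => orbF_inv (hS hg) hy)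
  have h4 := Finset.card_le_card (fixS_mono (L := S) hsub)
  rw [fix9_one h hS (by simpa using hSc)] at h4
  have h5 := Finset.card_le_card hsub
  rw [card_Om h.ne] at h5
  have h6 : 0 < (orbF H x).card := Finset.card_pos.2 ⟨x, self_orbF H x⟩
  apply Finset.eq_of_subset_of_card_le hsub
  rw [card_Om h.ne]
  unfold Nat.ModEq at h1 h3
  omega

/-- the configuration -/
structure Cfg (H : Subgroup (Equiv.Perm GolayPt)) (p q a b : GolayPt) : Prop where
  two : Two H p q
  ha : a ∈ Om p q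
  hb : b ∈ Om p q
  hab : a ≠ b
  tr : ∀ x ∈ Om p q, ∃ g ∈ H, g a = x
  six : (orbF (H ⊓ MulAction.stabilizer (Equiv.Perm GolayPt) a) b).card = 6
  fif : ∀ x ∈ Om p q, x ≠ a → x ∉ orbF (H ⊓ MulAction.stabilizer (Equiv.Perm GolayPt) a) b →
    ∀ y ∈ Om p q, y ≠ a → y ∉ orbF (H ⊓ MulAction.stabilizer (Equiv.Perm GolayPt) a) b →
    ∃ g ∈ H, g a = a ∧ g x = y

theorem exists_cfg (h : Two H p q) (hc : Nat.card H = 7920) : ∃ a b, Cfg H p q a b := by
  have : Fact (Nat.Prime 3) := ⟨by norm_num⟩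
  have : Fact (Nat.Prime 5) := ⟨by norm_num⟩
  obtain ⟨S, hS, hSc⟩ := exists_sub H 3 2 (by rw [hc]; norm_num)
  have h1 := fix9_one h hS (by simpa using hSc)
  obtain ⟨a, ha⟩ := Finset.card_eq_one.1 h1
  have haO : a ∈ Om p q := by
    have : a ∈ fixS S (Om p q) := by rw [ha]; simp
    exact (mem_fixS.1 this).1
  have haS : ∀ g ∈ S, g a = a := by
    have : a ∈ fixS S (Om p q) := by rw [ha]; simp
    exact (mem_fixS.1 this).2
  have htr : ∀ x ∈ Om p q, orbF H x = Om p q := fun x hx => trans22 h (by rw [hc]; norm_num) (by rw [hc]; norm_num) hx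
  set Ha := H ⊓ MulAction.stabilizer (Equiv.Perm GolayPt) a with hHa
  have hca : Nat.card Ha = 360 := by
    have := card_orbF H a
    rw [hc, htr a haO, card_Om h.ne, ← hHa] at this
    omega
  have hHaH : Ha ≤ H := inf_le_left
  have hSa : S ≤ Ha := fun g hg => ⟨hS hg, haS g hg⟩
  obtain ⟨c0, hc0⟩ := exists_prime_orderOf_dvd_card' (G := Ha) 5 (by rw [hca]; norm_num)
  have hc1 := orderOf_eq_prime_iff.1 hc0
  set c : Equiv.Perm GolayPt := (c0 : Equiv.Perm GolayPt) with hcdef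
  have c5 : c ^ 5 = 1 := congrArg Subtype.val hc1.1
  have c1 : c ≠ 1 := fun e => hc1.2 (Subtype.ext e)
  have hcH : c ∈ H := hHaH c0.2
  have hca' : c a = a := c0.2.2
  have h4 := fix5 (h.le hcH) c5 c1
  set F := Finset.univ.filter (fun x => c x = x) with hF
  have hpqa : ({p, q, a} : Finset GolayPt).card = 3 := by
    rw [mem_Om] at haO
    exact Finset.card_eq_three.2 ⟨p, q, a, h.ne, haO.1.symm, haO.2.symm, rfl⟩
  have hsub : ({p, q, a} : Finset GolayPt) ⊆ F := by
    intro x hx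
    simp only [mem_insert, mem_singleton] at hx
    rw [hF, mem_filter]
    refine ⟨mem_univ _, ?_⟩
    rcases hx with rfl | rfl | rfl
    · exact h.hp c hcH
    · exact h.hq c hcH
    · exact hca'
  have h1' : (F \ {p, q, a}).card = 1 := by
    rw [Finset.card_sdiff_of_subset hsub, h4, hpqa]
  obtain ⟨b, hb⟩ := Finset.card_eq_one.1 h1'
  have hb1 : b ∈ F \ {p, q, a} := by rw [hb]; simp
  rw [mem_sdiff] at hb1
  have hbF : c b = b := by have := hb1.1; rw [hF, mem_filter] at this; exact this.2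
  have hb2 := hb1.2
  simp only [mem_insert, mem_singleton, not_or] at hb2
  have hbO : b ∈ Om p q := mem_Om.2 ⟨hb2.1, hb2.2.1⟩
  have honly : ∀ x ∈ Om p q, x ≠ a → c x = x → x = b := by
    intro x hx hxa hcx
    have : x ∈ F \ {p, q, a} := by
      rw [mem_sdiff, hF, mem_filter]
      refine ⟨⟨mem_univ _, hcx⟩, ?_⟩
      simp only [mem_insert, mem_singleton, not_or]
      exact ⟨(mem_Om.1 hx).1, (mem_Om.1 hx).2, hxa⟩
    rw [hb, mem_singleton] at this
    exact this
  -- orbits of the stabiliser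
  have horb : ∀ x ∈ Om p q, x ≠ a → orbF Ha x ⊆ (Om p q).erase a := by
    intro x hx hxa y hy
    rw [mem_erase]
    refine ⟨?_, orbF_Om h hHaH hx hy⟩
    rintro rfl
    obtain ⟨g, hg, hgx⟩ := mem_orbF.1 hy
    apply hxa
    apply g.injective
    rw [hgx]
    exact (show g _ = _ from hg.2).symm
  have horb3 : ∀ x ∈ Om p q, x ≠ a → (orbF Ha x).card % 3 = 0 := by
    intro x hx hxa
    have h5 := fix_mod (p := 3) (isP hSc) (Y := orbF Ha x) (fun g hg y hy => orbF_inv (hSa hg) hy)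
    have h6 : (fixS S (orbF Ha x)).card = 0 := by
      rw [Finset.card_eq_zero, Finset.eq_empty_iff_forall_notMem]
      intro y hy
      rw [mem_fixS] at hy
      have h7 := horb x hx hxa hy.1
      rw [mem_erase] at h7
      have h8 : y ∈ fixS S (Om p q) := mem_fixS.2 ⟨h7.2, hy.2⟩
      rw [ha, mem_singleton] at h8
      exact h7.1 h8
    unfold Nat.ModEq at h5
    omega
  have horbd : ∀ x, (orbF Ha x).card ∣ 360 := by
    intro x
    have := card_orbF Ha x
    rw [hca] at this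
    exact ⟨_, this⟩
  have horb5 : ∀ x ∈ Om p q, x ≠ a → ((orbF Ha x).filter (fun y => c y = y)).card % 5 = (orbF Ha x).card % 5 := by
    intro x hx hxa
    exact fix_mod_elt c5 (fun y hy => orbF_inv c0.2 hy)
  have hle : ∀ x ∈ Om p q, x ≠ a → (orbF Ha x).card ≤ 21 := by
    intro x hx hxa
    have := Finset.card_le_card (horb x hx hxa)
    rw [Finset.card_erase_of_mem haO, card_Om h.ne] at this
    exact this
  have hfin : ∀ m ∈ Nat.divisors 360, m ≤ 21 → m % 3 = 0 → (m % 5 = 0 → m = 15) ∧ (m % 5 = 1 → m = 6) := by decide +kernel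
  have hdiv : ∀ x, (orbF Ha x).card ∈ Nat.divisors 360 := fun x => Nat.mem_divisors.2 ⟨horbd x, by norm_num⟩
  have h6 : (orbF Ha b).card = 6 := by
    have e := horb5 b hbO hb2.2.2
    have e2 : (orbF Ha b).filter (fun y => c y = y) = {b} := by
      ext y
      rw [mem_filter, mem_singleton]
      constructor
      · rintro ⟨h7, h8⟩
        have h9 := horb b hbO hb2.2.2 h7
        rw [mem_erase] at h9
        exact honly y h9.2 h9.1 h8
      · rintro rfl; exact ⟨self_orbF _ _, hbF⟩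
    rw [e2, Finset.card_singleton] at e
    exact (hfin _ (hdiv b) (hle b hbO hb2.2.2) (horb3 b hbO hb2.2.2)).2 (by omega)
  have h15 : ∀ x ∈ Om p q, x ≠ a → x ∉ orbF Ha b → (orbF Ha x).card = 15 := by
    intro x hx hxa hxb
    have e := horb5 x hx hxa
    have e2 : (orbF Ha x).filter (fun y => c y = y) = ∅ := by
      rw [Finset.eq_empty_iff_forall_notMem]
      intro y hy
      rw [mem_filter] at hy
      have h9 := horb x hx hxa hy.1
      rw [mem_erase] at h9
      have h10 := honly y h9.2 h9.1 hy.2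
      rw [h10] at hy
      obtain ⟨g, hg, hgx⟩ := mem_orbF.1 hy.1
      apply hxb
      exact mem_orbF.2 ⟨g⁻¹, Ha.inv_mem hg, by rw [← hgx]; simp⟩
    rw [e2, Finset.card_empty] at e
    exact (hfin _ (hdiv x) (hle x hx hxa) (horb3 x hx hxa)).1 (by omega)
  refine ⟨a, b, ⟨h, haO, hbO, (Ne.symm hb2.2.2), ?_, h6, ?_⟩⟩
  · intro x hx
    rw [← htr a haO] at hx
    exact mem_orbF.1 hx
  · intro x hx hxa hxb y hy hya hyb
    have hx15 := h15 x hx hxa hxb
    have hy15 := h15 y hy hya hyb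
    have hyx : y ∈ orbF Ha x := by
      by_contra hc'
      have hdis : Disjoint (orbF Ha x) (orbF Ha y) := by
        rw [Finset.disjoint_left]
        intro z hz hz'
        obtain ⟨g, hg, hgx⟩ := mem_orbF.1 hz
        obtain ⟨k, hk, hkx⟩ := mem_orbF.1 hz'
        apply hc'
        refine mem_orbF.2 ⟨k⁻¹ * g, Ha.mul_mem (Ha.inv_mem hk) hg, ?_⟩
        rw [Equiv.Perm.mul_apply, hgx, ← hkx]; simp
      have h7 : orbF Ha x ∪ orbF Ha y ⊆ (Om p q).erase a := Finset.union_subset (horb x hx hxa) (horb y hy hya)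
      have h8 := Finset.card_le_card h7
      rw [Finset.card_union_of_disjoint hdis, hx15, hy15, Finset.card_erase_of_mem haO, card_Om h.ne] at h8
      omega
    obtain ⟨g, hg, hgx⟩ := mem_orbF.1 hyx
    exact ⟨g, hg.1, hg.2, hgx⟩

end Cfsg.Agent.Lib.M22Sub
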