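import Cfsg.Agent.Lib.Golay.FixCount
import Cfsg.Agent.Lib.Golay.Misc
import Mathlib.GroupTheory.Sylow

/-!
Fixed points of elements and small subgroups of the largest Mathieu group.
-/

set_option autoImplicit false

namespace Cfsg.Agent.Lib.M22Sub

open Cfsg Finset
open scoped Pointwise
open Cfsg.Agent.Lib.Golay

open Classical in
/-- fixed points in a set -/
noncomputable def fixS (L : Subgroup (Equiv.Perm GolayPt)) (Y : Finset GolayPt) : Finset GolayPt :=
  Y.filter (fun y => ∀ g ∈ L, g y = y)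

theorem mem_fixS {L : Subgroup (Equiv.Perm GolayPt)} {Y : Finset GolayPt} {y : GolayPt} :
    y ∈ fixS L Y ↔ y ∈ Y ∧ ∀ g ∈ L, g y = y := by
  classical
  unfold fixS
  rw [Finset.mem_filter]

theorem fix_mod {p : ℕ} [Fact p.Prime] {L : Subgroup (Equiv.Perm GolayPt)} (hL : IsPGroup p L) {Y : Finset GolayPt}
    (hY : ∀ g ∈ L, ∀ y ∈ Y, g y ∈ Y) : (fixS L Y).card ≡ Y.card [MOD p] := by
  let _ : MulAction L {y // y ∈ Y} :=
    { smul := fun r y => ⟨(r : Equiv.Perm GolayPt) y, hY r r.2 y y.2⟩
      one_smul := fun y => rfl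
      mul_smul := fun _ _ _ => rfl }
  have h := hL.card_modEq_card_fixedPoints {y // y ∈ Y}
  have e1 : Nat.card {y // y ∈ Y} = Y.card := by rw [Nat.card_eq_fintype_card, Fintype.card_coe]
  have e2 : Nat.card (MulAction.fixedPoints L {y // y ∈ Y}) = (fixS L Y).card := by
    rw [← Fintype.card_coe, ← Nat.card_eq_fintype_card]
    refine Nat.card_congr ⟨fun y => ⟨y.1.1, mem_fixS.2 ⟨y.1.2, fun g hg => ?_⟩⟩, fun y => ⟨⟨y.1, (mem_fixS.1 y.2).1⟩, fun g => ?_⟩,
      fun _ => rfl, fun _ => rfl⟩
    · exact congrArg Subtype.val (y.2 ⟨g, hg⟩)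
    · exact Subtype.ext ((mem_fixS.1 y.2).2 g g.2)
  rw [e1, e2] at h
  exact h.symm

theorem fixS_zpowers {s : Equiv.Perm GolayPt} {Y : Finset GolayPt} : fixS (Subgroup.zpowers s) Y = Y.filter (fun y => s y = y) := by
  ext y
  rw [mem_fixS, mem_filter]
  refine and_congr_right (fun _ => ⟨fun h => h s (Subgroup.mem_zpowers s), ?_⟩)
  intro h g hg
  have h1 : s ∈ MulAction.stabilizer (Equiv.Perm GolayPt) y := h
  have h2 : Subgroup.zpowers s ≤ MulAction.stabilizer (Equiv.Perm GolayPt) y := by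
    rw [Subgroup.zpowers_le]; exact h1
  exact h2 hg

theorem zpowers_inv {s : Equiv.Perm GolayPt} {Y : Finset GolayPt} (hY : ∀ y ∈ Y, s y ∈ Y) : ∀ g ∈ Subgroup.zpowers s, ∀ y ∈ Y, g y ∈ Y := by
  have h1 : s • Y = Y := by
    apply Finset.eq_of_subset_of_card_le
    · intro x hx
      obtain ⟨y, hy, rfl⟩ := Finset.mem_smul_finset.1 hx
      exact hY y hy
    · rw [Finset.card_smul_finset]
  have h2 : Subgroup.zpowers s ≤ MulAction.stabilizer (Equiv.Perm GolayPt) Y := by
    rw [Subgroup.zpowers_le]; exact h1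
  intro g hg y hy
  have h3 : g • Y = Y := h2 hg
  rw [← h3]
  exact (smul_mem_smul_iff' g Y y).2 hy

theorem isPGroup_zpowers {p : ℕ} [Fact p.Prime] {s : Equiv.Perm GolayPt} (hs : s ^ p = 1) : IsPGroup p (Subgroup.zpowers s) := by
  rcases (Nat.dvd_prime (Fact.out : p.Prime)).1 (orderOf_dvd_of_pow_eq_one hs) with h | h
  · apply IsPGroup.of_card (n := 0)
    rw [Nat.card_zpowers, h, pow_zero]
  · apply IsPGroup.of_card (n := 1)
    rw [Nat.card_zpowers, h, pow_one]

theorem fix_mod_elt {p : ℕ} [Fact p.Prime] {s : Equiv.Perm GolayPt} (hs : s ^ p = 1) {Y : Finset GolayPt}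
    (hY : ∀ y ∈ Y, s y ∈ Y) : (Y.filter (fun y => s y = y)).card ≡ Y.card [MOD p] := by
  rw [← fixS_zpowers]
  exact fix_mod (isPGroup_zpowers hs) (zpowers_inv hY)

/-- an element of prime order at least five has at most eight fixed points -/
theorem nfix_le_eight {g : Equiv.Perm GolayPt} (hg : g ∈ M24) {r : ℕ} [hr : Fact r.Prime] (hr5 : 5 ≤ r) (h1 : g ^ r = 1)
    (hne : g ≠ 1) : (Finset.univ.filter (fun x => g x = x)).card ≤ 8 := by
  by_contra hc
  push Not at hc
  apply hne
  set F := Finset.univ.filter (fun x => g x = x) with hF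
  obtain ⟨s, hs1, hs2⟩ := Finset.exists_subset_card_eq (show 5 ≤ F.card by omega)
  obtain ⟨o, ⟨ho, hso⟩, hu⟩ := steiner.2 s hs2
  have hgo : g • o = o := by
    apply hu
    refine ⟨smul_mem_octads hg ho, ?_⟩
    intro x hx
    have : g x = x := by have := hs1 hx; rw [hF, mem_filter] at this; exact this.2
    rw [← this, smul_mem_smul_iff']; exact hso hx
  have h3 : (o \ s).card = 3 := by
    rw [Finset.card_sdiff_of_subset hso, (mem_octads.1 ho).2, hs2]
  have hinv : ∀ y ∈ o \ s, g y ∈ o \ s := by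
    intro y hy
    rw [mem_sdiff] at hy ⊢
    refine ⟨?_, ?_⟩
    · rw [← hgo, smul_mem_smul_iff']; exact hy.1
    · intro h
      have h2 := hs1 h
      rw [hF, mem_filter] at h2
      exact hy.2 (g.injective h2.2 ▸ h)
  have h4 := fix_mod_elt h1 hinv
  rw [h3] at h4
  have h5 : ((o \ s).filter (fun y => g y = y)).card ≤ 3 := by rw [← h3]; exact Finset.card_filter_le _ _
  have h6 : ((o \ s).filter (fun y => g y = y)).card = 3 := by
    unfold Nat.ModEq at h4
    rw [Nat.mod_eq_of_lt (show 3 < r by omega), Nat.mod_eq_of_lt (by omega)] at h4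
    exact h4
  have h7 : ∀ y ∈ o \ s, g y = y := by
    have h8 : (o \ s).filter (fun y => g y = y) = o \ s := Finset.eq_of_subset_of_card_le (Finset.filter_subset _ _) (by rw [h6, h3])
    intro y hy
    rw [← h8, mem_filter] at hy
    exact hy.2
  obtain ⟨w, hw, hwo⟩ := Finset.exists_mem_notMem_of_card_lt_card (show o.card < F.card by rw [(mem_octads.1 ho).2]; omega)
  obtain ⟨z, hz⟩ : ∃ z, z ∈ o \ s := by
    have : (o \ s).Nonempty := by rw [← Finset.card_pos, h3]; norm_num
    exact this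
  have hsl : s.toList.length = 5 := by rw [Finset.length_toList, hs2]
  have hsfix : ∀ x ∈ s, g x = x := by intro x hx; have := hs1 hx; rw [hF, mem_filter] at this; exact this.2
  -- the sequence
  have hget : ∀ i < 5, lseq s.toList i ∈ s := by
    intro i hi
    exact Finset.mem_toList.1 (lseq_mem (by omega))
  refine eq_one_of_fixes7 (fun i => if i < 5 then lseq s.toList i else if i = 5 then w else z) ?_ ho ?_ ?_ ?_ ?_ hg ?_
  · intro i hi j hj
    rw [if_pos (by omega : j < 5), if_pos hi]
    exact lseq_inj (Finset.nodup_toList s) i (by omega) j hj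
  · intro i hi
    rw [if_pos hi]; exact hso (hget i hi)
  · simpa using hwo
  · simpa using (mem_sdiff.1 hz).1
  · intro i hi
    rw [if_pos hi]
    simp only [show ¬ (6 < 5) by norm_num, show ¬ (6 = 5) by norm_num, if_false]
    intro e
    exact (mem_sdiff.1 hz).2 (e ▸ hget i hi)
  · intro i hi
    by_cases h8 : i < 5
    · simp only [h8, if_true]; exact hsfix _ (hget i h8)
    · by_cases h9 : i = 5
      · subst h9
        simp only [show ¬ (5 < 5) by norm_num, if_false, if_true]
        rw [hF, mem_filter] at hw; exact hw.2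
      · simp only [h8, h9, if_false]
        exact h7 z hz

theorem card_fix_prime {g : Equiv.Perm GolayPt} (hg : g ∈ M24) {r : ℕ} [hr : Fact r.Prime] (hr5 : 5 ≤ r) (h1 : g ^ r = 1)
    (hne : g ≠ 1) : (Finset.univ.filter (fun x => g x = x)).card ≤ 8 ∧ (Finset.univ.filter (fun x => g x = x)).card % r = 24 % r := by
  refine ⟨nfix_le_eight hg hr5 h1 hne, ?_⟩
  have := fix_mod_elt h1 (Y := Finset.univ) (fun _ _ => mem_univ _)
  rw [Finset.card_univ, card_golayPt] at this
  exact this

theorem fix5 {g : Equiv.Perm GolayPt} (hg : g ∈ M24) (h1 : g ^ 5 = 1) (hne : g ≠ 1) :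
    (Finset.univ.filter (fun x => g x = x)).card = 4 := by
  have : Fact (Nat.Prime 5) := ⟨by norm_num⟩
  have := card_fix_prime hg (le_refl 5) h1 hne
  omega

theorem fix7 {g : Equiv.Perm GolayPt} (hg : g ∈ M24) (h1 : g ^ 7 = 1) (hne : g ≠ 1) :
    (Finset.univ.filter (fun x => g x = x)).card = 3 := by
  have : Fact (Nat.Prime 7) := ⟨by norm_num⟩
  have := card_fix_prime hg (by norm_num) h1 hne
  omega

theorem fix11 {g : Equiv.Perm GolayPt} (hg : g ∈ M24) (h1 : g ^ 11 = 1) (hne : g ≠ 1) :
    (Finset.univ.filter (fun x => g x = x)).card = 2 := by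
  have : Fact (Nat.Prime 11) := ⟨by norm_num⟩
  have := card_fix_prime hg (by norm_num) h1 hne
  omega

/-- involutions with a fixed point have eight -/
theorem fix2 {g : Equiv.Perm GolayPt} (hg : g ∈ M24) (h2 : g * g = 1) (h1 : g ≠ 1) {p : GolayPt} (hp : g p = p) :
    (Finset.univ.filter fun x => g x = x).card = 8 := by
  obtain ⟨k, hk, e | e⟩ := inv_class hg h2 h1
  · have h := nfix_conj k g
    rw [e, nfix_reps.1] at h
    exact h.symm
  · exfalso
    have h4 := nfix_conj k g
    rw [e, nfix_reps.2.1] at h4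
    have h5 : p ∈ (Finset.univ.filter fun x => g x = x) := by simp [hp]
    unfold nfix at h4
    rw [Finset.card_eq_zero.1 h4.symm] at h5
    simp at h5

/-- a group of order nine fixes at most four points -/
theorem fix9 {S : Subgroup (Equiv.Perm GolayPt)} (hS : S ≤ M24) (h9 : Nat.card S = 9) : (fixS S Finset.univ).card ≤ 4 := by
  by_contra hc
  push Not at hc
  obtain ⟨s, hs1, hs2⟩ := Finset.exists_subset_card_eq (show 5 ≤ (fixS S Finset.univ).card by omega)
  have hsl : s.toList.length = 5 := by rw [Finset.length_toList, hs2]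
  -- conjugate into the chain
  obtain ⟨k, hk, hkx⟩ := exists_map_seq5 (fun i => lseq s.toList i) (fun i => pt (bpt i))
    (fun i hi j hj => lseq_inj (Finset.nodup_toList s) i (by omega) j hj) (by
      have : ∀ i < 5, ∀ j < i, pt (bpt j) ≠ pt (bpt i) := by decide +kernel
      exact this)
  have h1 : Nat.card S ∣ Nat.card (chain 5) := by
    have h2 : S.map (MulAut.conj k).toMonoidHom ≤ chain 5 := by
      rintro _ ⟨g, hg, rfl⟩
      show k * g * k⁻¹ ∈ chain 5
      refine ⟨M24.mul_mem (M24.mul_mem hk (hS hg)) (M24.inv_mem hk), ?_⟩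
      have hb : ∀ p : GolayPt, p ∈ st (bmask 5) → ∃ i < 5, p = pt (bpt i) := by decide +kernel
      intro p hp
      obtain ⟨i, hi, rfl⟩ := hb p hp
      have e1 := hkx i hi
      have e2 : g (lseq s.toList i) = lseq s.toList i := by
        have := hs1 (Finset.mem_toList.1 (lseq_mem (l := s.toList) (i := i) (by omega)))
        exact (mem_fixS.1 this).2 g hg
      rw [Equiv.Perm.mul_apply, Equiv.Perm.mul_apply, ← e1]
      show k (g (k.symm (k (lseq s.toList i)))) = k (lseq s.toList i)
      rw [Equiv.symm_apply_apply, e2]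
    have h3 := Subgroup.card_dvd_of_le h2
    rwa [Nat.card_congr (Subgroup.equivMapOfInjective S (MulAut.conj k).toMonoidHom (MulAut.conj k).injective).symm.toEquiv] at h3
  have h2 : Nat.card (chain 5) ∣ 48 := by
    have := card_chain_five
    rw [this]
  rw [h9] at h1
  have h3 := h1.trans h2
  revert h3; decide

end Cfsg.Agent.Lib.M22Sub
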